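import Cfsg.Agent.Fusion91.Solvable
import Cfsg.Agent.Lib.Fusion.PPowerNormal
import Cfsg.Agent.PrimeIndex.Saturation
import Cfsg.Agent.Fus93.Frattini
import Cfsg.Agent.Lib.Fusion.Hyperfocal

set_option autoImplicit false
set_option linter.style.haveILetI false

/-! A terminating residual series gives an abelian chain of strongly closed subgroups. -/

namespace Cfsg.Agent.Fusion91.Series

open Cfsg Cfsg.FusionSystem Cfsg.Agent.Fusion91
open Cfsg.Agent.Fusion (IsMap IsIso autFun)
open scoped commutatorElement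

variable {Ω : Type*} [Group Ω] {S T : Subgroup Ω} {F : Cfsg.FusionSystem S}
  {D : Cfsg.FusionSystem T} {p : ℕ}

/-- The least strongly closed subgroup containing the commutators of `Y`. -/
def dStep (F : Cfsg.FusionSystem S) (Y : Subgroup Ω) : Subgroup Ω :=
  sInf {X | F.StronglyClosed X ∧ ⁅Y, Y⁆ ≤ X}

/-- The derived series of `T` with respect to strong closure in `D`. -/
def dSeries (D : Cfsg.FusionSystem T) : ℕ → Subgroup Ω
  | 0 => T
  | k + 1 => dStep D (dSeries D k)

theorem stronglyClosed_top (F : Cfsg.FusionSystem S) : F.StronglyClosed S :=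
  ⟨le_rfl, fun _ _ _ hφ x => (F.le_of_mem hφ).2 x⟩

theorem commutator_le_self (Y : Subgroup Ω) : ⁅Y, Y⁆ ≤ Y :=
  Subgroup.commutator_le.mpr fun a ha b hb => by
    rw [commutatorElement_def]
    exact Y.mul_mem (Y.mul_mem (Y.mul_mem ha hb) (Y.inv_mem ha)) (Y.inv_mem hb)

theorem dStep_le {Y : Subgroup Ω} (hY : F.StronglyClosed Y) : dStep F Y ≤ Y :=
  sInf_le ⟨hY, commutator_le_self Y⟩

theorem stronglyClosed_dStep {Y : Subgroup Ω} (hY : F.StronglyClosed Y) :
    F.StronglyClosed (dStep F Y) :=
  ⟨(dStep_le hY).trans hY.1, fun R hR φ hφ x => Subgroup.mem_sInf.mpr fun X hX =>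
    hX.1.2 R (hR.trans (sInf_le hX)) φ hφ x⟩

theorem stronglyClosed_dSeries (D : Cfsg.FusionSystem T) : ∀ k, D.StronglyClosed (dSeries D k)
  | 0 => stronglyClosed_top D
  | k + 1 => stronglyClosed_dStep (stronglyClosed_dSeries D k)

theorem dSeries_antitone (D : Cfsg.FusionSystem T) : Antitone (dSeries D) :=
  antitone_nat_of_succ_le fun k => dStep_le (stronglyClosed_dSeries D k)

theorem commutator_dSeries_le (D : Cfsg.FusionSystem T) (k : ℕ) :
    ⁅dSeries D k, dSeries D k⁆ ≤ dSeries D (k + 1) :=
  le_sInf fun _ hX => hX.2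

theorem exists_dSeries_eq_bot (h : HasAbelianChain D T) : ∃ k, dSeries D k = ⊥ := by
  obtain ⟨n, X, h0, hl, -, hcl, hab⟩ := h
  refine ⟨n, le_bot_iff.mp ?_⟩
  have key : ∀ i : Fin (n + 1), dSeries D (n - i) ≤ X i := by
    intro i
    induction i using Fin.reverseInduction with
    | last => simp [hl, dSeries]
    | cast i ih =>
      have h1 : n - (Fin.castSucc i : ℕ) = (n - (i.succ : ℕ)) + 1 := by
        simp only [Fin.val_castSucc, Fin.val_succ]; omega
      rw [h1]
      exact sInf_le ⟨hcl _, (Subgroup.commutator_mono ih ih).trans (hab i)⟩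
  simpa [h0] using key 0

/-- The series is invariant under the automorphisms of `T` normalizing `D`. -/
theorem dSeries_invariant (hinv : D.IsInvariantIn F) :
    ∀ (k : ℕ) (α : MulAut T), α ∈ F.autGroup T → ∀ x ∈ dSeries D k, autFun α x ∈ dSeries D k := by
  intro k
  induction k with
  | zero =>
    intro α _ x hx
    show autFun α x ∈ T
    rw [Fusion.autFun_of_mem α hx]
    exact Subtype.mem _
  | succ k ih =>
    intro α hα x hx
    refine Subgroup.mem_sInf.mpr fun X hX => ?_
    let X' : Subgroup Ω := (X.comap (T.subtype.comp α.toMonoidHom)).map T.subtype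
    have hmem : ∀ y, y ∈ X' ↔ y ∈ T ∧ autFun α y ∈ X := fun y => by
      constructor
      · rintro ⟨z, hz, rfl⟩
        refine ⟨z.2, ?_⟩
        show autFun α (z : Ω) ∈ X
        rw [Fusion.autFun_of_mem α z.2]
        exact hz
      · rintro ⟨hyT, hy⟩
        rw [Fusion.autFun_of_mem α hyT] at hy
        exact ⟨⟨y, hyT⟩, hy, rfl⟩
    have hcl : D.StronglyClosed X' := Fusion.stronglyClosed_iff.mpr
      ⟨fun y hy => ((hmem y).mp hy).1, fun R f hf y hy hyX => by
        obtain ⟨Q, g, hQ, -, hg, hge⟩ := Fus93.transport_isMap hinv hf hα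
        refine (hmem _).mpr ⟨hf.apply_mem hy, ?_⟩
        rw [← hge y hy]
        exact (Fusion.stronglyClosed_iff.mp hX.1).2 Q g hg _ (hQ y hy) ((hmem y).mp hyX).2⟩
    have hYT := (stronglyClosed_dSeries D k).1
    have hcomm : ⁅dSeries D k, dSeries D k⁆ ≤ X' := Subgroup.commutator_le.mpr fun a ha b hb => by
      have hc : ⁅a, b⁆ ∈ T := hYT (commutator_le_self _ (Subgroup.commutator_mem_commutator ha hb))
      refine (hmem _).mpr ⟨hc, hX.2 ?_⟩
      have ha' := ih α hα a ha
      have hb' := ih α hα b hb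
      rw [Fusion.autFun_of_mem α hc,
        show (⟨⁅a, b⁆, hc⟩ : T) = ⁅(⟨a, hYT ha⟩ : T), ⟨b, hYT hb⟩⁆ from
          Subtype.ext (by simp [commutatorElement_def]), map_commutatorElement]
      rw [Fusion.autFun_of_mem α (hYT ha)] at ha'
      rw [Fusion.autFun_of_mem α (hYT hb)] at hb'
      have h3 := Subgroup.commutator_mem_commutator ha' hb'
      simpa [commutatorElement_def] using h3
    exact ((hmem x).mp (Subgroup.mem_sInf.mp hx X' ⟨hcl, hcomm⟩)).2

theorem stronglyClosed_dSeries_of_invariant (hinv : D.IsInvariantIn F) (k : ℕ) :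
    F.StronglyClosed (dSeries D k) := by
  have hYT := (stronglyClosed_dSeries D k).1
  refine ⟨hYT.trans hinv.2.1.1, fun R hR φ hφ x => ?_⟩
  obtain ⟨α, hα, φ₀, hφ₀, he⟩ := hinv.2.2.2 R (hR.trans hYT) φ hφ
  have h1 : φ₀ x ∈ dSeries D k := (stronglyClosed_dSeries D k).2 R hR φ₀ hφ₀ x
  rw [he x (hYT h1), ← Fusion.autFun_of_mem α (hYT h1)]
  exact dSeries_invariant hinv k α hα _ h1

/-- An abelian chain of an invariant subsystem gives one of the whole system. -/
theorem chain_of_invariant (hinv : D.IsInvariantIn F) (h : HasAbelianChain D T) :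
    HasAbelianChain F T := by
  obtain ⟨n, hn⟩ := exists_dSeries_eq_bot h
  refine ⟨n, fun i => dSeries D (n - i), by simpa using hn, by simp [dSeries],
    fun i j hij => dSeries_antitone D (by omega),
    fun i => stronglyClosed_dSeries_of_invariant hinv _, fun i => ?_⟩
  have h1 : n - (Fin.castSucc i : ℕ) = (n - (i.succ : ℕ)) + 1 := by
    simp only [Fin.val_castSucc, Fin.val_succ]; omega
  simp only [h1]
  exact commutator_dSeries_le D _

/-- Above the hyperfocal subgroup the chain always continues to the top. -/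
theorem chain_of_hyperfocal [Fact p.Prime] [Finite S] (hS : IsPGroup p S) (hF : F.IsSaturated p)
    (h : HasAbelianChain F (F.hyperfocalSubgroup p)) : HasAbelianChain F S := by
  set H := F.hyperfocalSubgroup p with hH
  have hHS : H ≤ S := Fusion.hyperfocal_le
  haveI hHn : (H.subgroupOf S).Normal :=
    (Subgroup.normal_subgroupOf_iff_le_normalizer hHS).mpr Fusion.hyperfocal_normalizer
  let π := QuotientGroup.mk' (H.subgroupOf S)
  let W : ℕ → Subgroup Ω := fun k => ((derivedSeries (S ⧸ H.subgroupOf S) k).comap π).map S.subtype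
  haveI : Finite (S ⧸ H.subgroupOf S) := Quotient.finite _
  haveI : Group.IsNilpotent (S ⧸ H.subgroupOf S) := (hS.to_quotient _).isNilpotent
  obtain ⟨n, hn⟩ : ∃ n, derivedSeries (S ⧸ H.subgroupOf S) n = ⊥ := Group.IsSolvable.solvable
  have hWn : W n = H := by
    simp only [W, hn, MonoidHom.comap_bot, π, QuotientGroup.ker_mk']
    rw [Subgroup.subgroupOf_map_subtype, inf_eq_left.mpr hHS]
  have hW0 : W 0 = S := by simp [W, ← MonoidHom.range_eq_map]
  have hWle : ∀ k, W k ≤ S := fun k => Subgroup.map_subtype_le _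
  have hHW : ∀ k, H ≤ W k := fun k x hx => ⟨⟨x, hHS hx⟩, by
    show π ⟨x, hHS hx⟩ ∈ derivedSeries _ k
    rw [show π ⟨x, hHS hx⟩ = 1 from (QuotientGroup.eq_one_iff _).mpr hx]
    exact one_mem _, rfl⟩
  have hWcl : ∀ k, F.StronglyClosed (W k) := fun k =>
    Fusion.PPow.stronglyClosed_of_hyperfocal_le hS hF (hWle k) (by
      show (((derivedSeries _ k).comap π).map S.subtype).comap S.subtype |>.Normal
      rw [Subgroup.comap_map_eq_self_of_injective S.subtype_injective]
      exact (derivedSeries_normal _ k).comap π) (hHW k)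
  have hWmono : ∀ k, W (k + 1) ≤ W k := fun k =>
    Subgroup.map_mono (Subgroup.comap_mono (derivedSeries_antitone _ k.le_succ))
  have hWc : ∀ k, ⁅W k, W k⁆ ≤ W (k + 1) := fun k => by
    show ⁅_, _⁆ ≤ _
    rw [← Subgroup.map_commutator]
    refine Subgroup.map_mono (Subgroup.map_le_iff_le_comap.mp ?_)
    rw [Subgroup.map_commutator, derivedSeries_succ]
    exact Subgroup.commutator_mono (Subgroup.map_comap_le _ _) (Subgroup.map_comap_le _ _)
  suffices key : ∀ j, j ≤ n → HasAbelianChain F (W (n - j)) by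
    simpa [hW0] using key n le_rfl
  intro j
  induction j with
  | zero => exact fun _ => by simpa [hWn] using h
  | succ j ih =>
    intro hj
    have he : n - j = (n - (j + 1)) + 1 := by omega
    have h1 := ih (by omega)
    rw [he] at h1
    exact h1.snoc (hWmono _) (hWcl _) (hWc _)

theorem residual_unique {A B : Cfsg.FusionSystem S} (hA : F.IsPPrimeResidual p A)
    (hB : F.IsPPrimeResidual p B) : A = B :=
  Fusion.fusion_antisymm (hA.2.2 B hB.1 hB.2.1) (hB.2.2 A hA.1 hA.2.1)

theorem pPrimeResidual_invariant [Finite S] [Fact p.Prime] (hS : IsPGroup p S)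
    (hF : F.IsSaturated p) {E : Cfsg.FusionSystem S} (hE : F.IsPPrimeResidual p E) :
    E.IsInvariantIn F := by
  rw [residual_unique hE (PrimeIndex.fdSystem_residual hS hF)]
  exact (PrimeIndex.fdSystem_normal hS hF PrimeIndex.h0_le le_rfl
    fun _ ha _ hc => PrimeIndex.h0_conj ha hc).1.2.2

theorem pResidual_invariant [Finite S] [Fact p.Prime] (hS : IsPGroup p S)
    (hF : F.IsSaturated p) {D : Cfsg.FusionSystem (F.hyperfocalSubgroup p)}
    (hD : F.IsPResidual p D) : D.IsInvariantIn F :=
  (Fusion.PPow.isNormalIn_of_pPowerIndex hS hF Fusion.hyperfocal_le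
    ((Subgroup.normal_subgroupOf_iff_le_normalizer Fusion.hyperfocal_le).mpr
      Fusion.hyperfocal_normalizer) hD.1 hD.2).1.2.2

/-- A terminating residual series gives an abelian chain. -/
theorem chain_of_terminating (h : F.HasTerminatingResidualSeries p) :
    ∀ [Fact p.Prime] [Finite S], IsPGroup p S → F.IsSaturated p → HasAbelianChain F S := by
  induction h with
  | trivial F p hbot =>
    intro _ _ _ _
    subst hbot
    exact HasAbelianChain.bot F
  | step F E p D hE hD _ ih =>
    intro _ _ hS hF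
    haveI := finite_of_le (S := _) (Fusion.hyperfocal_le (F := E) (p := p))
    have hD' := ih (hS.to_le Fusion.hyperfocal_le) hD.1
    exact chain_of_invariant (pPrimeResidual_invariant hS hF hE)
      (chain_of_hyperfocal hS hE.1 (chain_of_invariant (pResidual_invariant hS hE.1 hD) hD'))

theorem constrained_of_terminating [Fact p.Prime] [Finite S] (hS : IsPGroup p S)
    (hF : F.IsSaturated p) (h : F.HasTerminatingResidualSeries p) : F.IsConstrained p :=
  isConstrained_of_chain hS hF (chain_of_terminating h hS hF)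

end Cfsg.Agent.Fusion91.Series
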