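import Cfsg.Agent.Lib.Thompson.PSolvable

set_option autoImplicit false
set_option linter.style.haveILetI false

/-! Groups with self-centralizing `O_p`, and `p`-solvable extensions. -/

namespace Cfsg.Agent.Fusion91.Series

open Cfsg Cfsg.Agent

variable {p : ℕ} [hp : Fact p.Prime] {G : Type*} [Group G] [Finite G]

/-- The subgroup generated by the elements of `p`-power order. -/
def pGen (p : ℕ) (G : Type*) [Group G] : Subgroup G :=
  Subgroup.closure {g : G | ∃ k : ℕ, orderOf g = p ^ k}

omit hp [Finite G] in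
theorem mem_pGen {g : G} {k : ℕ} (h : orderOf g = p ^ k) : g ∈ pGen p G :=
  Subgroup.subset_closure ⟨k, h⟩

omit hp [Finite G] in
instance pGen_normal : (pGen p G).Normal := by
  refine ⟨fun x hx g => ?_⟩
  have h1 : pGen p G ≤ (pGen p G).comap (MulAut.conj g).toMonoidHom := by
    refine (Subgroup.closure_le _).mpr fun y ⟨k, hk⟩ => mem_pGen (k := k) ?_
    exact ((MulAut.conj g).orderOf_eq y).trans hk
  exact h1 hx

theorem sylow_le_pGen (T : Sylow p G) : (T : Subgroup G) ≤ pGen p G := fun x hx => by
  obtain ⟨k, hk⟩ := T.isPGroup' ⟨x, hx⟩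
  obtain ⟨j, -, hj⟩ := (Nat.dvd_prime_pow hp.out).mp
    (orderOf_dvd_of_pow_eq_one (show x ^ p ^ k = 1 by simpa using congrArg Subtype.val hk))
  exact mem_pGen hj

theorem pGen_index_coprime : (pGen p G).index.Coprime p := by
  obtain ⟨T⟩ := (inferInstance : Nonempty (Sylow p G))
  exact (hp.out.coprime_iff_not_dvd.mpr fun h =>
    T.not_dvd_index (h.trans (Subgroup.index_dvd_of_le (sylow_le_pGen T)))).symm

/-- A normal subgroup inherits a self-centralizing `O_p`. -/
theorem centralizer_pCore_normal (hG : Subgroup.centralizer (pCore p G : Set G) ≤ pCore p G)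
    (H : Subgroup G) [H.Normal] :
    Subgroup.centralizer (pCore p H : Set H) ≤ pCore p H := by
  haveI hC : (Subgroup.centralizer (pCore p H : Set H)).Normal := Subgroup.normal_centralizer
  refine Thompson.le_pCore hC fun c => ?_
  obtain ⟨a, m, hm, hord⟩ := Nat.exists_eq_pow_mul_and_not_dvd (orderOf_pos c).ne' p hp.out.ne_one
  refine ⟨a, ?_⟩
  set d := c ^ p ^ a with hd
  have hdm : d ^ m = 1 := by rw [hd, ← pow_mul, ← hord, pow_orderOf_eq_one]
  have hcen : ((d : H) : G) ∈ Subgroup.centralizer (pCore p G : Set G) := by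
    refine Subgroup.mem_centralizer_iff.mpr fun q hq => ?_
    set x : G := ((d : H) : G) with hx
    set w := x * q * x⁻¹ * q⁻¹ with hw
    have hwQ : w ∈ pCore p G :=
      (pCore p G).mul_mem (Thompson.instPCoreNormal.conj_mem q hq x) ((pCore p G).inv_mem hq)
    have hwH : w ∈ H := by
      rw [hw, mul_assoc, mul_assoc, ← mul_assoc q]
      exact H.mul_mem (d : H).2 (‹H.Normal›.conj_mem _ (H.inv_mem (d : H).2) q)
    have hwP : (⟨w, hwH⟩ : H) ∈ pCore p H := Thompson.subgroupOf_pCore_le H hwQ
    have hwc : x * w = w * x := by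
      have := Subgroup.mem_centralizer_iff.mp (d : Subgroup.centralizer _).2 _ hwP
      exact (congrArg Subtype.val this).symm
    have hpow : ∀ k : ℕ, x ^ k * q * (x ^ k)⁻¹ = w ^ k * q := by
      intro k
      induction k with
      | zero => simp
      | succ k ih =>
        have h1 : x * w ^ k = w ^ k * x := (Commute.pow_right hwc k).eq
        calc x ^ (k + 1) * q * (x ^ (k + 1))⁻¹ = x * (x ^ k * q * (x ^ k)⁻¹) * x⁻¹ := by
              rw [pow_succ']; group
          _ = x * (w ^ k * q) * x⁻¹ := by rw [ih]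
          _ = w ^ k * (x * q * x⁻¹) := by rw [← mul_assoc x, h1]; group
          _ = w ^ (k + 1) * q := by rw [hw, pow_succ]; group
    have hxm : x ^ m = 1 := by
      simpa using congrArg (fun y : Subgroup.centralizer _ => ((y : H) : G)) hdm
    have h2 := hpow m
    rw [hxm, one_mul, inv_one, mul_one, eq_comm, mul_eq_right] at h2
    obtain ⟨k, hk⟩ := Thompson.isPGroup_pCore ⟨w, hwQ⟩
    have hk' : w ^ p ^ k = 1 := by simpa using congrArg Subtype.val hk
    have hw1 : w = 1 := orderOf_eq_one_iff.mp (Nat.eq_one_of_dvd_coprimes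
      ((hp.out.coprime_iff_not_dvd.mpr hm).pow_left k).symm (orderOf_dvd_of_pow_eq_one h2)
      (orderOf_dvd_of_pow_eq_one hk'))
    exact (mul_inv_eq_iff_eq_mul.mp (mul_inv_eq_one.mp hw1)).symm
  obtain ⟨k, hk⟩ := Thompson.isPGroup_pCore ⟨_, hG hcen⟩
  have hk' : d ^ p ^ k = 1 := by
    apply Subtype.ext; apply Subtype.ext
    simpa using congrArg Subtype.val hk
  exact orderOf_eq_one_iff.mp (Nat.eq_one_of_dvd_coprimes
    ((hp.out.coprime_iff_not_dvd.mpr hm).pow_left k).symm (orderOf_dvd_of_pow_eq_one hdm)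
    (orderOf_dvd_of_pow_eq_one hk'))

/-- An extension of a `p`-solvable group by a `p`-group or a `p'`-group is `p`-solvable. -/
theorem isPSolvable_of_normal :
    ∀ (n : ℕ) {G : Type*} [Group G] [Finite G], Nat.card G = n → ∀ (N : Subgroup G) [N.Normal],
      IsPSolvable p N → ((∃ m : ℕ, N.index = p ^ m) ∨ N.index.Coprime p) → IsPSolvable p G := by
  intro n
  induction n using Nat.strong_induction_on with
  | _ n ih =>
    intro G _ _ hn N _ hN hi
    by_cases hb : N = ⊥
    · subst hb
      rw [Subgroup.index_bot] at hi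
      rcases hi with ⟨m, hm⟩ | hc
      · exact Thompson.isPSolvable_of_isPGroup (IsPGroup.of_card hm)
      · exact Thompson.isPSolvable_of_coprime hc
    haveI : Nontrivial N := (Subgroup.nontrivial_iff_ne_bot N).mpr hb
    obtain ⟨M₀, hch, hne, hkind⟩ : ∃ M₀ : Subgroup N, M₀.Characteristic ∧ M₀ ≠ ⊥ ∧
        (IsPGroup p M₀ ∨ (Nat.card M₀).Coprime p) := by
      rcases Thompson.pCore_ne_bot_or_pPrimeCore_ne_bot hN with h | h
      · exact ⟨_, inferInstance, h, Or.inl Thompson.isPGroup_pCore⟩
      · exact ⟨_, inferInstance, h, Or.inr Thompson.card_pPrimeCore_coprime⟩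
    haveI := hch
    haveI := Thompson.map_subtype_normal_of_characteristic N M₀
    set M := M₀.map N.subtype with hM
    have hcard : Nat.card M = Nat.card M₀ :=
      Subgroup.card_map_of_injective N.subtype_injective
    have hMne : M ≠ ⊥ := fun h => hne
      ((Subgroup.map_eq_bot_iff_of_injective _ N.subtype_injective).mp h)
    refine Thompson.isPSolvable_of_quotient M ?_ ?_
    · exact hkind.imp (fun h => h.map _) fun h => hcard ▸ h
    haveI : (N.map (QuotientGroup.mk' M)).Normal :=
      Subgroup.Normal.map ‹N.Normal› _ (QuotientGroup.mk'_surjective M)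
    refine ih (Nat.card (G ⧸ M)) ?_ rfl (N.map (QuotientGroup.mk' M))
      (Thompson.isPSolvable_of_surjective _
        ((QuotientGroup.mk' M).subgroupMap_surjective N) hN)
      (Thompson.pow_or_coprime_of_dvd
        (Subgroup.index_map_dvd N (QuotientGroup.mk'_surjective M)) hi)
    rw [← hn, Subgroup.card_eq_card_quotient_mul_card_subgroup M]
    exact lt_mul_of_one_lt_right Nat.card_pos ((Subgroup.one_lt_card_iff_ne_bot M).mpr hMne)

/-- A nontrivial `p`-solvable group generated by its `p`-elements is not equal to its `p`-residual. -/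
theorem pResidual_ne_top [Nontrivial G] (hG : IsPSolvable p G) (hgen : pGen p G = ⊤) :
    pResidual p G ≠ ⊤ := by
  obtain ⟨n, H, h0, hl, -, hN, hi⟩ := hG
  obtain ⟨i, hlt, htop⟩ : ∃ i : Fin n, H i.castSucc ≠ ⊤ ∧ H i.succ = ⊤ := by
    by_contra h
    push Not at h
    have : ∀ i, H i = ⊤ := fun i => by
      induction i using Fin.reverseInduction with
      | last => exact hl
      | cast i ih =>
        by_contra hne
        exact h i hne ih
    exact bot_ne_top (h0.symm.trans (this 0))
  haveI := hN i.castSucc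
  have hidx := hi i
  rw [htop, Subgroup.relIndex_top_right] at hidx
  rcases hidx with ⟨m, hm⟩ | hc
  · exact fun ht => hlt (top_le_iff.mp (ht ▸ Thompson.pResidual_le _ (IsPGroup.of_card
      ((Subgroup.index_eq_card _).symm.trans hm))))
  · refine absurd ?_ hlt
    rw [← top_le_iff, ← hgen]
    refine (Subgroup.closure_le _).mpr fun g ⟨k, hk⟩ => ?_
    refine (QuotientGroup.eq_one_iff g).mp (orderOf_eq_one_iff.mp ?_)
    refine Nat.eq_one_of_dvd_coprimes (hc.pow_right k) ?_ (hk ▸ orderOf_map_dvd (QuotientGroup.mk' _) g)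
    rw [Subgroup.index_eq_card]
    exact orderOf_dvd_natCard _

end Cfsg.Agent.Fusion91.Series
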