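import Cfsg.Agent.Fusion91.Series.Transport
import Cfsg.Agent.Fusion91.Series.Chain
import Cfsg.Agent.Fusion91.Series.GroupFacts
import Cfsg.Agent.Fus93.GroupNormal
import Cfsg.Agent.S5139
import Cfsg.Agent.S5113
import Cfsg.Agent.S5343

set_option autoImplicit false
set_option linter.style.haveILetI false

/-! The residual series of the fusion system of a group with self-centralizing `O_p`. -/

namespace Cfsg.Agent.Fusion91.Series

open Cfsg Cfsg.Agent.Fusion
open Cfsg.Agent.Fus93 (FIso isMap_sub_iff fiso_sub)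
open Cfsg.FusionSystem (normalizerIn centralizerIn)

universe u v

variable {p : ℕ} [hp : Fact p.Prime] {G : Type u} [Group G] [Finite G]

/-- A `p`-power automorphism of a subgroup is induced from `O^{p'}(G)`. -/
theorem exists_pGen_conj (T : Sylow p G) {P : Subgroup G} (hP : P ≤ T) {α : MulAut P}
    (hα : α ∈ (groupFusionSystem (T : Subgroup G)).autGroup P) {k : ℕ} (hk : orderOf α = p ^ k) :
    ∃ g ∈ pGen p G, ∀ x : P, (α x : G) = g * x * g⁻¹ := by
  rw [autGroup_group T hP, ← range_conjAutHom] at hα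
  obtain ⟨g, rfl⟩ := hα
  obtain ⟨a, m, hm, hord⟩ := Nat.exists_eq_pow_mul_and_not_dvd (orderOf_pos g).ne' p hp.out.ne_one
  have hco : m.Coprime (orderOf (conjAutHom (⊤ : Subgroup G) P g)) := by
    rw [hk]
    exact ((hp.out.coprime_iff_not_dvd.mpr hm).pow_left k).symm
  obtain ⟨j, hj⟩ := exists_pow_eq_self_of_coprime hco
  refine ⟨(((g ^ m) ^ j : ↥(normalizerIn (⊤ : Subgroup G) P)) : G), ?_, fun x => ?_⟩
  · have h1 : ((g ^ m) ^ j) ^ p ^ a = 1 := by
      rw [← pow_mul, ← pow_mul, show m * (j * p ^ a) = (p ^ a * m) * j by ring, pow_mul, ← hord,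
        pow_orderOf_eq_one, one_pow]
    obtain ⟨i, -, hi⟩ := (Nat.dvd_prime_pow hp.out).mp (orderOf_dvd_of_pow_eq_one h1)
    exact mem_pGen ((Subgroup.orderOf_coe _).trans hi)
  · conv_lhs => rw [← hj, ← map_pow, ← map_pow]
    rfl

/-- The system of `O^{p'}(G)` is the `p'`-residual of the system of `G`. -/
theorem group_pPrimeResidual (T : Sylow p G)
    (hcore : Subgroup.centralizer (pCore p G : Set G) ≤ pCore p G) :
    (groupFusionSystem (T : Subgroup G)).IsPPrimeResidual p
      (fusionSystemOfSubgroup (pGen p G) T (sylow_le_pGen T)) := by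
  haveI hQn : (pCore p G).Normal := Thompson.instPCoreNormal
  refine ⟨(fiso_sub (pGen p G) T (sylow_le_pGen T)).symm.isSaturated ?_, ⟨fun P φ hφ => ?_, fun P hP => ?_⟩,
    fun X hX hXi P => hom_subset_of_isMap fun f hf => ?_⟩
  · have h := groupFusionSystem_isSaturated (T.subtype (sylow_le_pGen T))
    rwa [Sylow.coe_subtype] at h
  · exact ⟨hφ.1, hφ.2.1, hφ.2.2.imp fun _ h => h.2⟩
  · rw [Subgroup.map_le_iff_le_comap, Subgroup.closure_le]
    rintro α ⟨k, hk⟩
    obtain ⟨g, hg, hge⟩ := exists_pGen_conj T hP α.2 ((Subgroup.orderOf_coe α).trans hk)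
    refine autGroup_mem_of_isMap (isMap_sub_iff.mpr ⟨hP, fun x hx => ?_, g, hg, fun x hx => ?_⟩)
    · rw [autFun_of_mem _ hx]
      exact hP (Subtype.mem _)
    · rw [autFun_of_mem _ hx]
      exact hge ⟨x, hx⟩
  set Q := pCore p G with hQ
  have hQT : Q ≤ (T : Subgroup G) := Thompson.pCore_le_sylow T
  -- every element of `O^{p'}(G)` acts on `Q` through `X`
  let c : G →* MulAut Q := MulAut.conjNormal
  have hc : pGen p G ≤ (X.autGroup Q).comap c := by
    refine (Subgroup.closure_le _).mpr fun g ⟨k, hk⟩ => ?_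
    obtain ⟨j, -, hj⟩ := (Nat.dvd_prime_pow hp.out).mp (hk ▸ orderOf_map_dvd c g)
    have hcF : c g ∈ (groupFusionSystem (T : Subgroup G)).autGroup Q := by
      rw [autGroup_group T hQT, mem_autInducedBy]
      exact ⟨g, Subgroup.mem_top g, fun x => MulAut.conjNormal_apply g x⟩
    exact hXi.2 Q hQT ⟨⟨c g, hcF⟩, Subgroup.subset_closure ⟨j, (Subgroup.orderOf_mk _ _).trans hj⟩, rfl⟩
  obtain ⟨hP, hfT, g, hg, hge⟩ := isMap_sub_iff.mp hf
  have hiso : IsIso X Q Q (autFun (c g)) := (mem_autGroup hQT).mp (hc hg)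
  have hTN : ∀ {t : G}, t ∈ Subgroup.normalizer (Q : Set G) := fun {t} => by
    rw [Subgroup.normalizer_eq_top]; exact Subgroup.mem_top t
  have hQX : X.IsFullyNormalized Q := by
    refine ⟨hQT, fun R _ => Subgroup.card_le_of_le fun t ht => ⟨ht.1, hTN⟩⟩
  have hext : IsExtendable (T : Subgroup G) Q (autFun (c g)) P := by
    refine ⟨hP, fun m hm => ⟨hTN, g * m * g⁻¹, hge m hm ▸ hfT m hm, fun x hx => ?_⟩⟩
    rw [autFun_of_mem _ hx, autFun_of_mem _ (hQn.conj_mem x hx m)]
    simp only [c, MulAut.conjNormal_apply]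
    group
  obtain ⟨f', hf', hf'e⟩ := receptive_extend (receptive_of_fullyNormalized T.isPGroup' hX hQX) hiso hext
  obtain ⟨-, -, h, hh⟩ := isMap_group_iff.mp (hf'.of_isSubsystemOf hXi.1)
  have hz : h⁻¹ * g ∈ Q := hcore (Subgroup.mem_centralizer_iff.mpr fun x hx => by
    have h1 : g * x * g⁻¹ = h * x * h⁻¹ := by
      rw [← hh x (Subgroup.mem_sup_left hx), hf'e hx, autFun_of_mem _ hx]
      simp only [c, MulAut.conjNormal_apply]
    calc x * (h⁻¹ * g) = h⁻¹ * (h * x * h⁻¹) * g := by group
      _ = h⁻¹ * (g * x * g⁻¹) * g := by rw [h1]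
      _ = h⁻¹ * g * x := by group)
  have hzc : ∀ x ∈ P, h⁻¹ * g * x * (h⁻¹ * g)⁻¹ ∈ Q ⊔ P := fun x hx =>
    (Q ⊔ P).mul_mem ((Q ⊔ P).mul_mem (Subgroup.mem_sup_left hz) (Subgroup.mem_sup_right hx))
      ((Q ⊔ P).inv_mem (Subgroup.mem_sup_left hz))
  refine ((isMap_conj hP (hQT hz)).comp hf' hzc).congr fun x hx => ?_
  show f' (h⁻¹ * g * x * (h⁻¹ * g)⁻¹) = f x
  rw [hh _ (hzc x hx), hge x hx]
  group

/-- The system of `O^p(H)` as a system of a group. -/
theorem exists_pResidual_fiso {H : Type u} [Group H] [Finite H] (T : Sylow p H) :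
    ∃ (D : Cfsg.FusionSystem ((groupFusionSystem (T : Subgroup H)).hyperfocalSubgroup p))
      (U : Sylow p (pResidual p H)) (a : H → pResidual p H) (b : pResidual p H → H),
      (groupFusionSystem (T : Subgroup H)).IsPResidual p D ∧
        FIso D (groupFusionSystem (U : Subgroup (pResidual p H))) a b := by
  set F := groupFusionSystem (T : Subgroup H) with hF
  have hle : F.hyperfocalSubgroup p ≤ (T : Subgroup H) := hyperfocal_le
  obtain ⟨D, hD, -⟩ := S5113.result p T.isPGroup' F (groupFusionSystem_isSaturated T) _ hle le_rfl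
  haveI : (pResidual p H).Normal := inferInstance
  obtain ⟨U, hU⟩ := Fus93.exists_sylow_inf T (pResidual p H)
  refine ⟨D, U, Fus93.intoSub (pResidual p H) ∘ id, id ∘ Subtype.val, hD, ?_⟩
  rw [hU]
  exact Fus19.fiso_trans
    (fiso_of_eq (hyperfocal_eq T) (S5139.aux T (hyperfocal_eq T) D hD.1 hD.2))
    (fiso_sub _ _ inf_le_right)

theorem pResidual_unique {Ω : Type*} [Group Ω] {S : Subgroup Ω} [Finite S] (hS : IsPGroup p S)
    {F : Cfsg.FusionSystem S} {A B : Cfsg.FusionSystem (F.hyperfocalSubgroup p)}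
    (hA : F.IsPResidual p A) (hB : F.IsPResidual p B) : A = B := by
  haveI := Fusion91.finite_of_le (S := S) (hyperfocal_le (F := F) (p := p))
  exact fusion_ext (hom_eq_of_pPower (hS.to_le hyperfocal_le) hA.1 hB.1 hA.2 hB.2)

omit hp in
/-- A group with self-centralizing `O_p` whose system has a terminating series is `p`-solvable. -/
theorem pSolvable_of_terminating {Ω : Type v} [Group Ω] {S : Subgroup Ω} {F : Cfsg.FusionSystem S}
    (ht : F.HasTerminatingResidualSeries p) :
    ∀ [Fact p.Prime] [Finite S] (G : Type u) [Group G] [Finite G] (T : Sylow p G) (a : Ω → G) (b : G → Ω),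
      FIso F (groupFusionSystem (T : Subgroup G)) a b →
      Subgroup.centralizer (pCore p G : Set G) ≤ pCore p G → IsPSolvable p G := by
  induction ht with
  | @trivial S F p hbot =>
    intro hp' _ G _ _ T a b h _
    refine Thompson.isPSolvable_of_coprime (hp'.out.coprime_iff_not_dvd.mpr fun hd => ?_).symm
    have hT : (T : Subgroup G) = ⊥ := eq_bot_iff.mpr fun y hy => by
      have h1 := h.mem' y hy
      rw [hbot, Subgroup.mem_bot] at h1
      rw [Subgroup.mem_bot, ← h.right y hy, h1, h.map_one]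
    refine T.not_dvd_index ?_
    rwa [hT, Subgroup.index_bot]
  | @step S F E p D hE hD _ ih =>
    intro _ _ G _ _ T a b h hcore
    obtain ⟨E', hEE', hE'⟩ := pPrimeResidual_of_fiso h hE
    rw [residual_unique hE' (group_pPrimeResidual T hcore)] at hEE'
    have h2 := Fus19.fiso_trans hEE' (fiso_sub (pGen p G) T (sylow_le_pGen T))
    rw [← Sylow.coe_subtype T (sylow_le_pGen T)] at h2
    obtain ⟨D', hDD', hD'⟩ := pResidual_of_fiso h2 hD
    obtain ⟨D₂, U, a₂, b₂, hD₂, hDU⟩ := exists_pResidual_fiso (T.subtype (sylow_le_pGen T))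
    rw [pResidual_unique (T.subtype (sylow_le_pGen T)).isPGroup' hD' hD₂] at hDD'
    haveI := Fusion91.finite_of_le (S := S) (hyperfocal_le (F := E) (p := p))
    have hK := ih (pResidual p (pGen p G)) U _ _ (Fus19.fiso_trans hDD' hDU)
      (centralizer_pCore_normal (centralizer_pCore_normal hcore (pGen p G)) _)
    refine isPSolvable_of_normal _ rfl (pGen p G)
      (isPSolvable_of_normal _ rfl (pResidual p (pGen p G)) hK (Or.inl ?_))
      (Or.inr pGen_index_coprime)
    obtain ⟨m, hm⟩ := IsPGroup.iff_card.mp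
      (Thompson.isPGroup_quotient_pResidual (p := p) (G := ↥(pGen p G)))
    exact ⟨m, (Subgroup.index_eq_card _).trans hm⟩

omit hp in
theorem terminating_of_pSolvable [Fact p.Prime] :
    ∀ (n : ℕ) {G : Type u} [Group G] [Finite G], Nat.card G = n → ∀ T : Sylow p G,
      IsPSolvable p G → Subgroup.centralizer (pCore p G : Set G) ≤ pCore p G →
      (groupFusionSystem (T : Subgroup G)).HasTerminatingResidualSeries p := by
  intro n
  induction n using Nat.strong_induction_on with
  | _ n ih =>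
    intro G _ _ hn T hsol hcore
    by_cases hT : (T : Subgroup G) = ⊥
    · exact .trivial _ p hT
    have hres := group_pPrimeResidual T hcore
    have hle := sylow_le_pGen T
    set H := pGen p G with hH
    haveI : Nontrivial H := (Subgroup.nontrivial_iff_ne_bot H).mpr fun h => hT (le_bot_iff.mp (h ▸ hle))
    have hgen : pGen p H = ⊤ := by
      refine top_le_iff.mp fun x _ => ?_
      have h1 : H ≤ (pGen p H).map H.subtype := by
        refine (Subgroup.closure_le _).mpr fun g ⟨k, hk⟩ => ?_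
        exact ⟨⟨g, mem_pGen hk⟩, mem_pGen (k := k) ((Subgroup.orderOf_mk _ _).trans hk), rfl⟩
      obtain ⟨y, hy, hye⟩ := h1 x.2
      rwa [← Subtype.ext hye]
    obtain ⟨D, U, a₂, b₂, hD, hDU⟩ := exists_pResidual_fiso (T.subtype hle)
    have hsolH := Thompson.isPSolvable_subgroup H hsol
    have hlt : Nat.card (pResidual p H) < n := by
      refine lt_of_lt_of_le ?_ ((Subgroup.card_le_card_group H).trans hn.le)
      exact lt_of_le_of_ne (Subgroup.card_le_card_group _)
        fun he => pResidual_ne_top hsolH hgen (Subgroup.eq_top_of_card_eq _ he)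
    have hK := ih _ hlt rfl U (Thompson.isPSolvable_subgroup _ hsolH)
      (centralizer_pCore_normal (centralizer_pCore_normal hcore H) _)
    have hiso : FIso (groupFusionSystem ((T.subtype hle : Sylow p H) : Subgroup H))
        (fusionSystemOfSubgroup H T hle) Subtype.val (Fus93.intoSub H) := by
      rw [Sylow.coe_subtype]
      exact (fiso_sub H T hle).symm
    obtain ⟨D', hDD', hD'⟩ := pResidual_of_fiso hiso hD
    haveI := Fusion91.finite_of_le (S := (T : Subgroup G))
      (hyperfocal_le (F := fusionSystemOfSubgroup H T hle) (p := p))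
    exact .step _ _ p D' hres hD'
      (terminating_of_fiso hK (Fus19.fiso_trans hDU.symm hDD'))

end Cfsg.Agent.Fusion91.Series
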