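import Cfsg.Agent.Fus19.Quasi
import Cfsg.Agent.Fus19.Transport
import Cfsg.Agent.PrimeIndex.Saturation
import Cfsg.Agent.Lib.Fusion.Hyperfocal

set_option autoImplicit false
set_option linter.style.haveILetI false

/-! Residual subsystems and terminating series under isomorphisms of fusion systems. -/

namespace Cfsg.Agent.Fusion91.Series

open Cfsg Cfsg.Agent.Fusion Cfsg.Agent.Fus93

variable {Ω : Type*} [Group Ω] {S T U : Subgroup Ω} {Ω' : Type*} [Group Ω'] {S' T' U' : Subgroup Ω'}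
  {F : Cfsg.FusionSystem S} {F' : Cfsg.FusionSystem S'} {a : Ω → Ω'} {b : Ω' → Ω}
  {E : Cfsg.FusionSystem T} {E' : Cfsg.FusionSystem T'}
  {X : Cfsg.FusionSystem U} {X' : Cfsg.FusionSystem U'} {p : ℕ}

theorem img_hyperfocal (h : FIso F F' a b) (p : ℕ) :
    img a (F.hyperfocalSubgroup p) = F'.hyperfocalSubgroup p := by
  refine le_antisymm ?_ (Fus19.hyperfocal_le_img h.symm p)
  exact (FIso.img_mono (Fus19.hyperfocal_le_img h p)).trans
    (h.symm.img_img (Fus19.hyperfocal_le' F' p)).le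

/-- Inclusion of subsystems is preserved. -/
theorem sub_of_fiso (hE : FIso E E' a b) (hX : FIso X X' a b) (hs : E.IsSubsystemOf X) :
    E'.IsSubsystemOf X' := fun P => hom_subset_of_isMap fun g hg => by
  have h1 := hX.map ((hE.symm.map hg).of_isSubsystemOf hs)
  rw [hE.symm.img_img hg.dom_le] at h1
  refine h1.congr fun x hx => ?_
  simp only [Function.comp_apply, hE.right x (hg.dom_le hx), hE.right _ (hg.apply_mem hx)]

/-- A subsystem of the target comes from one of the source. -/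
theorem exists_pull (h : FIso F F' a b) (hT' : T' ≤ S') (hs : E'.IsSubsystemOf F') (hT : img b T' = T) :
    ∃ D : Cfsg.FusionSystem T, FIso D E' a b ∧ D.IsSubsystemOf F := by
  subst hT
  have hr := h.symm.restrictIso E' hT' hs
  exact ⟨_, hr.symm, sub_of_fiso hr h.symm hs⟩

/-- Automorphisms of the subsystem, seen on the other side. -/
theorem mem_autGroup_of_fiso (h : FIso F F' a b) (hE : FIso E E' a b) (hT : T' ≤ S')
    {P : Subgroup Ω'} (hP : P ≤ T') {α : MulAut P}
    (hα : (MulAut.congr (h.symm.imgEquiv (hP.trans hT))) α ∈ E.autGroup (img b P)) :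
    α ∈ E'.autGroup P := by
  rw [← hE.symm.map_autGroup hP] at hα
  obtain ⟨β, hβ, he⟩ := hα
  exact (MulAut.congr (h.symm.imgEquiv (hP.trans hT))).injective he ▸ hβ

theorem pPower_of_fiso (h : FIso F F' a b) (hE : FIso E E' a b) (hT : T ≤ S) (hT' : T' ≤ S')
    (hi : E.HasPPowerIndexIn F p) : E'.HasPPowerIndexIn F' p := by
  refine ⟨sub_of_fiso hE h hi.1, ?_, fun P hP => ?_⟩
  · rw [← img_hyperfocal h, ← hE.img_top]
    exact FIso.img_mono hi.2.1
  rintro _ ⟨α, hα, rfl⟩
  refine mem_autGroup_of_fiso h hE hT' hP ?_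
  have hb : img b P ≤ T := hE.symm.img_le hP
  let ψ : F'.autGroup P ≃* F.autGroup (img b P) :=
    ((MulAut.congr (h.symm.imgEquiv (hP.trans hT'))).subgroupMap (F'.autGroup P)).trans
      (MulEquiv.subgroupCongr (h.symm.map_autGroup (hP.trans hT')))
  exact hi.2.2 _ hb ⟨ψ α, Fus19.pResidual_map p ψ hα, rfl⟩

theorem primeToP_of_fiso (h : FIso F F' a b) {E : Cfsg.FusionSystem S} {E' : Cfsg.FusionSystem S'}
    (hE : FIso E E' a b) (hi : E.HasPrimeToPIndexIn F p) : E'.HasPrimeToPIndexIn F' p := by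
  refine ⟨sub_of_fiso hE h hi.1, fun P hP => ?_⟩
  rw [Subgroup.map_le_iff_le_comap, Subgroup.closure_le]
  rintro α ⟨k, hk⟩
  refine mem_autGroup_of_fiso h hE le_rfl hP ?_
  let ψ : F'.autGroup P ≃* F.autGroup (img b P) :=
    ((MulAut.congr (h.symm.imgEquiv hP)).subgroupMap (F'.autGroup P)).trans
      (MulEquiv.subgroupCongr (h.symm.map_autGroup hP))
  refine hi.2 _ (h.symm.img_le hP) ⟨ψ α, Subgroup.subset_closure ⟨k, ?_⟩, rfl⟩
  rw [ψ.orderOf_eq, hk]

theorem pPrimeResidual_of_fiso [Finite S] [Finite S'] [Fact p.Prime] (h : FIso F F' a b)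
    {E : Cfsg.FusionSystem S} (hE : F.IsPPrimeResidual p E) :
    ∃ E' : Cfsg.FusionSystem S', FIso E E' a b ∧ F'.IsPPrimeResidual p E' := by
  obtain ⟨E', hEE', -⟩ := exists_pull h.symm le_rfl hE.2.1.1 h.img_top
  refine ⟨E', hEE'.symm, hEE'.symm.isSaturated hE.1, primeToP_of_fiso h hEE'.symm hE.2.1,
    fun D' hD' hi' => ?_⟩
  obtain ⟨D, hD, -⟩ := exists_pull h le_rfl hi'.1 h.symm.img_top
  exact sub_of_fiso hEE'.symm hD
    (hE.2.2 D (hD.symm.isSaturated hD') (primeToP_of_fiso h.symm hD.symm hi'))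

theorem pResidual_of_fiso [Finite S] [Finite S'] [Fact p.Prime] (h : FIso F F' a b)
    {D : Cfsg.FusionSystem (F.hyperfocalSubgroup p)} (hD : F.IsPResidual p D) :
    ∃ D' : Cfsg.FusionSystem (F'.hyperfocalSubgroup p), FIso D D' a b ∧ F'.IsPResidual p D' := by
  haveI := finite_of_le (Fus19.hyperfocal_le' F p)
  obtain ⟨D', hDD', -⟩ :=
    exists_pull h.symm (Fus19.hyperfocal_le' F p) hD.2.1 (img_hyperfocal h p)
  exact ⟨D', hDD'.symm, hDD'.symm.isSaturated hD.1,
    pPower_of_fiso h hDD'.symm (Fus19.hyperfocal_le' F p) (Fus19.hyperfocal_le' F' p) hD.2⟩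

/-- Termination of the residual series is invariant under isomorphisms. -/
theorem terminating_of_fiso (ht : F.HasTerminatingResidualSeries p) :
    ∀ [Fact p.Prime] [Finite S] [Finite S'], FIso F F' a b → F'.HasTerminatingResidualSeries p := by
  induction ht generalizing S' with
  | @trivial S F p hbot =>
    intro _ _ _ h
    refine .trivial F' p (eq_bot_iff.mpr fun y hy => ?_)
    have h1 := h.mem' y hy
    rw [hbot, Subgroup.mem_bot] at h1
    rw [Subgroup.mem_bot, ← h.right y hy, h1, h.map_one]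
  | @step S F E p D hE hD _ ih =>
    intro _ _ _ h
    obtain ⟨E', hEE', hE'⟩ := pPrimeResidual_of_fiso h hE
    obtain ⟨D', hDD', hD'⟩ := pResidual_of_fiso hEE' hD
    haveI := finite_of_le (Fus19.hyperfocal_le' E p)
    haveI := finite_of_le (Fus19.hyperfocal_le' E' p)
    exact .step F' E' p D' hE' hD' (ih hDD')

/-- Systems over equal subgroups with the same maps. -/
theorem fiso_of_eq {F₁ : Cfsg.FusionSystem S} {F₂ : Cfsg.FusionSystem T} (hST : S = T)
    (he : ∀ P, F₁.Hom P = F₂.Hom P) : FIso F₁ F₂ id id := by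
  subst hST
  obtain rfl := fusion_ext he
  refine ⟨fun _ _ _ _ => rfl, fun _ hx => hx, fun _ hx => hx, fun _ _ => rfl, fun _ _ => rfl, ?_, ?_⟩
  all_goals
    intro P f hf P' hP'
    rw [Set.image_id] at hP'
    rw [SetLike.coe_injective hP']
    exact hf

end Cfsg.Agent.Fusion91.Series
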